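import Groth.Prelude.Def_SGA2
import Groth.Agent.Sga2lef.H94.PuncCoh
import Groth.Agent.Sga2.FinReg

/-!
# Finiteness of `H^i(X, F)` for `X = Spec A ∖ V(I)`, under the codimension one depth condition
-/

set_option autoImplicit false
universe u

open CategoryTheory CategoryTheory.Limits AlgebraicGeometry Opposite TopologicalSpace
open Groth.Agent.FormalB.PuncTheta Groth.Agent.FormalA.HHLin

namespace K184.FormalDepth

open Groth.Agent.Sga2lef.H94

theorem iSup_basicOpen_eq (A : Type u) [CommRing A] (I : Ideal A) :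
    (⨆ f : ↥I, (Spec (CommRingCat.of A)).basicOpen
      ((Scheme.ΓSpecIso (CommRingCat.of A)).inv f.1)) = LocCoh.puncturedOpen A I := by
  have h1 : ∀ (f : A) (p : PrimeSpectrum A), p ∈ (Spec (CommRingCat.of A)).basicOpen
      ((Scheme.ΓSpecIso (CommRingCat.of A)).inv f) ↔ f ∉ p.asIdeal := by
    intro f p
    have h := AlgebraicGeometry.basicOpen_eq_of_affine (R := CommRingCat.of A) f
    rw [h]
    rfl
  have h2 : ∀ p : PrimeSpectrum A, p ∈ (PrimeSpectrum.zeroLocus (R := A) (I : Set A))ᶜ ↔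
      ∃ f ∈ I, f ∉ p.asIdeal := by
    intro p
    rw [Set.mem_compl_iff, PrimeSpectrum.mem_zeroLocus, Set.not_subset]
    rfl
  ext p
  rw [SetLike.mem_coe, TopologicalSpace.Opens.mem_iSup]
  refine Iff.trans ?_ (h2 p).symm
  constructor
  · rintro ⟨f, hf⟩
    exact ⟨f.1, f.2, (h1 f.1 p).1 hf⟩
  · rintro ⟨f, hf, hf'⟩
    exact ⟨⟨f, hf⟩, (h1 f p).2 hf'⟩

theorem finite_HH' (R : Type u) [CommRing R] [IsRegularRing R] (A : Type u) [CommRing A]
    [IsNoetherianRing A] (π : R →+* A) (hπ : Function.Surjective π) (I : Ideal A)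
    (F : (LocCoh.puncturedOpen A I : Scheme.{u}).Modules) (hF : Coh.IsCoh F)
    (n : ℕ) (hdepth : ∀ x : (LocCoh.puncturedOpen A I : Scheme.{u}),
      SGA2.relCodim I ((LocCoh.puncturedOpen A I).ι.base x) = 1 →
      ((n + 1 : ℕ) : ℕ∞) ≤ LocCoh.depth
        ((LocCoh.puncturedOpen A I : Scheme.{u}).presheaf.stalk x)
        (F.presheaf.stalk x)) (i : ℕ) (hi : i ≤ n) :
    Module.Finite A (Coh.HH (LocCoh.puncturedOpen A I : Scheme.{u}) F i) := by
  have hUc : IsCompact (LocCoh.puncturedOpen A I :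
      Set (Spec (CommRingCat.of A))) := Groth.Agent.FormalA.InjSec.isCompact_opens _
  obtain ⟨M, _, _, hM, ⟨e⟩⟩ := Groth.Agent.FormalB.PuncTheta2.exists_finite_iso _ hUc F hF
  have hlc := (Groth.Agent.S2930.result R A π hπ I M (n + 1)).2 (by
    intro p q hp hq hpq
    let x : (LocCoh.puncturedOpen A I : Scheme.{u}) := ⟨p, hp⟩
    have h1 := hdepth x (Groth.Agent.Sga2.FinReg.relCodim_eq_one I p q hp hq hpq)
    rw [← StalkDepth.depth_stalk_iso e x, StalkDepth.depth_theta_stalk _ M x p rfl] at h1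
    exact h1)
  have h := PuncFin.finite_HH_le I M n hlc i hi
  exact Module.Finite.equiv (PuncCoh.hhEquiv e i)

theorem finite_HH_aux (R : Type u) [CommRing R] [IsRegularRing R] (A : Type u) [CommRing A]
    [IsNoetherianRing A] (π : R →+* A) (hπ : Function.Surjective π) (I : Ideal A)
    (U : (Spec (CommRingCat.of A)).Opens) (hU : U = LocCoh.puncturedOpen A I)
    (F : (U : Scheme.{u}).Modules) (hF : Coh.IsCoh F)
    (n : ℕ) (hdepth : ∀ x : (U : Scheme.{u}), SGA2.relCodim I (U.ι.base x) = 1 →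
      ((n + 1 : ℕ) : ℕ∞) ≤ LocCoh.depth ((U : Scheme.{u}).presheaf.stalk x) (F.presheaf.stalk x))
    (i : ℕ) (hi : i ≤ n) :
    Module.Finite A (Coh.HH (U : Scheme.{u}) F i) := by
  subst hU
  exact finite_HH' R A π hπ I F hF n hdepth i hi

theorem finite_HH (R : Type u) [CommRing R] [IsRegularRing R] (A : Type u) [CommRing A]
    [IsNoetherianRing A] (π : R →+* A) (hπ : Function.Surjective π) (I : Ideal A)
    (F : (↑(⨆ f : ↥I, (Spec (CommRingCat.of A)).basicOpen
      ((Scheme.ΓSpecIso (CommRingCat.of A)).inv f.1)) : Scheme.{u}).Modules) (hF : Coh.IsCoh F)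
    (n : ℕ) (hdepth : ∀ x : (↑(⨆ f : ↥I, (Spec (CommRingCat.of A)).basicOpen
      ((Scheme.ΓSpecIso (CommRingCat.of A)).inv f.1)) : Scheme.{u}),
      SGA2.relCodim I ((⨆ f : ↥I, (Spec (CommRingCat.of A)).basicOpen
        ((Scheme.ΓSpecIso (CommRingCat.of A)).inv f.1)).ι.base x) = 1 →
      ((n + 1 : ℕ) : ℕ∞) ≤ LocCoh.depth ((↑(⨆ f : ↥I, (Spec (CommRingCat.of A)).basicOpen
        ((Scheme.ΓSpecIso (CommRingCat.of A)).inv f.1)) : Scheme.{u}).presheaf.stalk x)
        (F.presheaf.stalk x)) (i : ℕ) (hi : i ≤ n) :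
    Module.Finite A (Coh.HH (↑(⨆ f : ↥I, (Spec (CommRingCat.of A)).basicOpen
      ((Scheme.ΓSpecIso (CommRingCat.of A)).inv f.1)) : Scheme.{u}) F i) :=
  finite_HH_aux R A π hπ I _ (iSup_basicOpen_eq A I) F hF n hdepth i hi

end K184.FormalDepth
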