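import Mathlib.RingTheory.MvPowerSeries.Basic
import Mathlib.Algebra.Algebra.Subalgebra.Basic
import Mathlib.Data.Set.Countable
import Mathlib.Algebra.Field.Defs
import Mathlib.RingTheory.Ideal.Quotient.Operations
import Mathlib.RingTheory.MvPolynomial.Basic
import Mathlib.Data.Finsupp.Encodable

/-!
# Sections over the formal disc are corepresentable
-/

set_option autoImplicit false
universe u

namespace K184.DiscSec

section MapAlg

variable {k : Type u} [CommRing k] {n : ℕ} {P Q : Type u} [CommRing P] [Algebra k P] [CommRing Q]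
  [Algebra k Q]

theorem algebraMap_eq (c : MvPowerSeries (Fin n) k) :
    algebraMap (MvPowerSeries (Fin n) k) (MvPowerSeries (Fin n) P) c =
      MvPowerSeries.map (algebraMap k P) c := rfl

/-- Coefficientwise application of an algebra map, as an algebra map over `k[[z]]`. -/
noncomputable def mapA (g : P →ₐ[k] Q) :
    MvPowerSeries (Fin n) P →ₐ[MvPowerSeries (Fin n) k] MvPowerSeries (Fin n) Q :=
  { MvPowerSeries.map (σ := Fin n) (g : P →+* Q) with
    commutes' := fun c => by
      change MvPowerSeries.map (g : P →+* Q) (algebraMap _ _ c) = algebraMap _ _ c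
      rw [algebraMap_eq, algebraMap_eq]
      ext m
      simp }

theorem mapA_apply (g : P →ₐ[k] Q) (x : MvPowerSeries (Fin n) P) :
    mapA (n := n) g x = MvPowerSeries.map (g : P →+* Q) x := rfl

theorem coeff_mapA (g : P →ₐ[k] Q) (x : MvPowerSeries (Fin n) P) (m : Fin n →₀ ℕ) :
    MvPowerSeries.coeff m (mapA (n := n) g x) = g (MvPowerSeries.coeff m x) := by
  rw [mapA_apply]
  simp

end MapAlg

variable (k : Type u) [Field k] (n : ℕ) (R : Type u) [CommRing R]
  [Algebra (MvPowerSeries (Fin n) k) R] (s : Set R)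

/-- Polynomials over `k[[z]]` in the generators. -/
abbrev Pol : Type u := MvPolynomial s (MvPowerSeries (Fin n) k)

/-- The presentation. -/
noncomputable abbrev pres : Pol k n R s →ₐ[MvPowerSeries (Fin n) k] R :=
  MvPolynomial.aeval (fun x : s => (x : R))

/-- The polynomial ring on the universal coefficients. -/
abbrev A₀ : Type u := MvPolynomial (s × (Fin n →₀ ℕ)) k

/-- The universal power series. -/
noncomputable def F (x : s) : MvPowerSeries (Fin n) (A₀ k n R s) :=
  fun m => MvPolynomial.X (x, m)

omit [CommRing R] [Algebra (MvPowerSeries (Fin n) k) R] in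
theorem coeff_F (x : s) (m : Fin n →₀ ℕ) :
    MvPowerSeries.coeff m (F k n R s x) = MvPolynomial.X (x, m) := rfl

/-- Substitution of the universal power series. -/
noncomputable abbrev Φ : Pol k n R s →ₐ[MvPowerSeries (Fin n) k]
    MvPowerSeries (Fin n) (A₀ k n R s) :=
  MvPolynomial.aeval (F k n R s)

/-- The ideal of relations. -/
noncomputable def rel : Ideal (A₀ k n R s) :=
  Ideal.span {a | ∃ g ∈ RingHom.ker (pres k n R s), ∃ m : Fin n →₀ ℕ,
    a = MvPowerSeries.coeff m (Φ k n R s g)}

/-- The corepresenting algebra. -/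
abbrev PP : Type u := A₀ k n R s ⧸ rel k n R s

noncomputable abbrev proj : A₀ k n R s →ₐ[k] PP k n R s := Ideal.Quotient.mkₐ k (rel k n R s)

theorem pres_surjective (hs : Algebra.adjoin (MvPowerSeries (Fin n) k) s = ⊤) :
    Function.Surjective (pres k n R s) := by
  rw [← AlgHom.range_eq_top]
  rw [← hs, Algebra.adjoin_eq_range]

variable (hs : Algebra.adjoin (MvPowerSeries (Fin n) k) s = ⊤)

/-- The universal homomorphism. -/
noncomputable def univ : R →ₐ[MvPowerSeries (Fin n) k] MvPowerSeries (Fin n) (PP k n R s) :=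
  (Ideal.Quotient.liftₐ (RingHom.ker (pres k n R s))
    ((mapA (n := n) (proj k n R s)).comp (Φ k n R s)) (by
      intro g hg
      ext m
      change MvPowerSeries.coeff m (mapA (n := n) (proj k n R s) (Φ k n R s g)) = 0
      rw [coeff_mapA]
      exact Ideal.Quotient.eq_zero_iff_mem.2 (Ideal.subset_span ⟨g, hg, m, rfl⟩))).comp
    (Ideal.quotientKerAlgEquivOfSurjective (pres_surjective k n R s hs)).symm.toAlgHom

theorem univ_pres (g : Pol k n R s) :
    univ k n R s hs (pres k n R s g) = mapA (n := n) (proj k n R s) (Φ k n R s g) := by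
  have h : (Ideal.quotientKerAlgEquivOfSurjective (pres_surjective k n R s hs)).symm
      (pres k n R s g) = Ideal.Quotient.mk _ g := by
    rw [AlgEquiv.symm_apply_eq]
    rfl
  unfold univ
  rw [AlgHom.comp_apply]
  erw [h]
  rfl

theorem coeff_univ (x : s) (m : Fin n →₀ ℕ) :
    MvPowerSeries.coeff m (univ k n R s hs (x : R)) = proj k n R s (MvPolynomial.X (x, m)) := by
  have h := univ_pres k n R s hs (MvPolynomial.X x)
  rw [MvPolynomial.aeval_X] at h
  rw [h, coeff_mapA, MvPolynomial.aeval_X]
  rfl

theorem exists_unique (Q : Type u) [CommRing Q] [Algebra k Q]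
    (f : R →ₐ[MvPowerSeries (Fin n) k] MvPowerSeries (Fin n) Q) :
    ∃! g : PP k n R s →ₐ[k] Q,
      (MvPowerSeries.map (σ := Fin n) (g : PP k n R s →+* Q)).comp
        (univ k n R s hs : R →+* MvPowerSeries (Fin n) (PP k n R s)) =
        (f : R →+* MvPowerSeries (Fin n) Q) := by
  let g₀ : A₀ k n R s →ₐ[k] Q :=
    MvPolynomial.aeval (fun xm : s × (Fin n →₀ ℕ) => MvPowerSeries.coeff xm.2 (f (xm.1 : R)))
  have h0 : (mapA (n := n) g₀).comp (Φ k n R s) = f.comp (pres k n R s) := by
    apply MvPolynomial.algHom_ext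
    intro x
    ext m
    simp only [AlgHom.comp_apply, MvPolynomial.aeval_X, coeff_mapA]
    rw [coeff_F]
    simp [g₀]
  have hker : ∀ a ∈ rel k n R s, g₀ a = 0 := by
    intro a ha
    have : rel k n R s ≤ RingHom.ker g₀ := by
      rw [rel, Ideal.span_le]
      rintro _ ⟨g, hg, m, rfl⟩
      change g₀ _ = 0
      rw [← coeff_mapA]
      have := congrArg (MvPowerSeries.coeff m) (DFunLike.congr_fun h0 g)
      simp only [AlgHom.comp_apply] at this
      rw [this, show pres k n R s g = 0 from hg, map_zero, map_zero]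
    exact this ha
  let g : PP k n R s →ₐ[k] Q := Ideal.Quotient.liftₐ _ g₀ hker
  have hg : g.comp (proj k n R s) = g₀ := by
    ext x; rfl
  refine ⟨g, ?_, ?_⟩
  · refine RingHom.ext fun r => ?_
    obtain ⟨q, rfl⟩ := pres_surjective k n R s hs r
    change MvPowerSeries.map (g : PP k n R s →+* Q) (univ k n R s hs (pres k n R s q)) =
      f (pres k n R s q)
    rw [univ_pres, ← AlgHom.comp_apply f, ← h0, ← mapA_apply]
    ext m
    rw [coeff_mapA, coeff_mapA, AlgHom.comp_apply, coeff_mapA, ← hg]
    rfl
  · intro g' hg'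
    apply Ideal.Quotient.algHom_ext
    apply MvPolynomial.algHom_ext
    rintro ⟨x, m⟩
    change g' (proj k n R s (MvPolynomial.X (x, m))) = g (proj k n R s (MvPolynomial.X (x, m)))
    rw [← AlgHom.comp_apply g, hg, ← coeff_univ k n R s hs x m, ← coeff_mapA, mapA_apply]
    have h1 := congrArg (MvPowerSeries.coeff m) (RingHom.congr_fun hg' (x : R))
    rw [show g₀ (MvPolynomial.X (x, m)) = MvPowerSeries.coeff m (f (x : R)) by simp [g₀]]
    exact h1

theorem countable (hc : s.Countable) :
    ∃ t : Set (PP k n R s), t.Countable ∧ Algebra.adjoin k t = ⊤ := by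
  have : Countable s := hc.to_subtype
  refine ⟨Set.range fun xm : s × (Fin n →₀ ℕ) => proj k n R s (MvPolynomial.X xm),
    Set.countable_range _, ?_⟩
  have h1 : (Set.range fun xm : s × (Fin n →₀ ℕ) => proj k n R s (MvPolynomial.X xm)) =
      (proj k n R s) '' (Set.range MvPolynomial.X) := by
    rw [← Set.range_comp]; rfl
  rw [h1, ← AlgHom.map_adjoin, MvPolynomial.adjoin_range_X, Algebra.map_top,
    AlgHom.range_eq_top]
  exact Ideal.Quotient.mkₐ_surjective _ _

end K184.DiscSec
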