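import Groth.Agent.Ega1.ProperSupp
import Groth.Agent.Ega1.PullFormal
import Groth.Agent.CurvesC.CurveNum
import Groth.Agent.FormalA.ClosedImm
import Groth.Agent.S0003

/-!
# The theorem on formal functions for modules with proper support

* `hhClosed i F p : HH X F p ≃+ HH Z (i^* F) p` for a closed immersion `i : Z ⟶ X` and `F` killed by
  the ideal of `i`, natural in `F` (`hhClosed_map`);
* `bijective_toHHlim_of_killed`: `toHHlim I M p` is bijective if `toHHlim I (i^* M) p` is;
* `bijective_toHHlim_of_proper_support`.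
-/

set_option autoImplicit false
universe u

open CategoryTheory CategoryTheory.Limits AlgebraicGeometry Opposite TopologicalSpace
open Groth.Agent.FormalB.ModPow Groth.Agent.Ega1.PullFormal Groth.Agent.CurvesC.CurveNum
  Groth.Agent.FormalA.HHLin

namespace K184.FormalSupp

section Transfer

variable {A : Type u} [CommRing A] {X Z : Scheme.{u}} [X.Over (Spec (CommRingCat.of A))]
  [Z.Over (Spec (CommRingCat.of A))]

/-- Transfer of the comparison of cohomology with formal cohomology. -/
theorem bijective_toHHlim_of_equiv (I : Ideal A) (M : X.Modules) (N : Z.Modules) (p : ℕ)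
    (e : Coh.HH X M p ≃+ Coh.HH Z N p)
    (en : ∀ n, Formal.HHmodPow I M p n ≃+ Formal.HHmodPow I N p n)
    (h1 : ∀ n x, en n (Formal.toHHmodPow I M p n x) = Formal.toHHmodPow I N p n (e x))
    (h2 : ∀ n x, en n (Formal.HHmodPowTrans I M p n x) =
      Formal.HHmodPowTrans I N p n (en (n + 1) x))
    (h : Function.Bijective (Formal.toHHlim I N p)) :
    Function.Bijective (Formal.toHHlim I M p) := by
  constructor
  · intro x y hxy
    apply e.injective
    apply h.1
    apply Subtype.ext
    funext n
    change Formal.toHHmodPow I N p n (e x) = Formal.toHHmodPow I N p n (e y)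
    rw [← h1, ← h1]
    exact congrArg (en n) (congrFun (congrArg Subtype.val hxy) n)
  · intro y
    obtain ⟨z, hz⟩ := h.2 ⟨fun n => en n (y.1 n), fun n => by
      rw [← h2, y.2 n]⟩
    refine ⟨e.symm z, ?_⟩
    apply Subtype.ext
    funext n
    apply (en n).injective
    change en n (Formal.toHHmodPow I M p n (e.symm z)) = _
    rw [h1, e.apply_symm_apply]
    exact congrFun (congrArg Subtype.val hz) n

end Transfer

section Closed

variable (A : Type u) [CommRing A] {X Z : Scheme.{u}} [X.Over (Spec (CommRingCat.of A))]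
  [Z.Over (Spec (CommRingCat.of A))]

/-- Isomorphic modules have isomorphic cohomology. -/
noncomputable def hiso {F G : X.Modules} (e : F ≅ G) (p : ℕ) :
    Coh.HH X F p ≃+ Coh.HH X G p where
  toFun := HHmap A e.hom p
  invFun := HHmap A e.inv p
  left_inv x := by rw [HHmap_comp_apply, e.hom_inv_id, HHmap_id]; rfl
  right_inv x := by rw [HHmap_comp_apply, e.inv_hom_id, HHmap_id]; rfl
  map_add' := map_add _

theorem hiso_apply {F G : X.Modules} (e : F ≅ G) (p : ℕ) (x : Coh.HH X F p) :
    hiso A e p x = HHmap A e.hom p x := rfl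

variable (i : Z ⟶ X) [IsClosedImmersion i]

theorem hhPush_HHmap {F G : Z.Modules} (φ : F ⟶ G) (p : ℕ) (x : Coh.HH Z F p) :
    hhPush i G p (HHmap A φ p x) =
      HHmap A ((Scheme.Modules.pushforward i).map φ) p (hhPush i F p x) :=
  abPush_map i ((SheafOfModules.toSheaf Z.ringCatSheaf).map φ) p x

/-- `H^p(X, F) ≃ H^p(Z, i^* F)` for `F` killed by the ideal of the closed immersion `i`. -/
noncomputable def hhClosed (F : X.Modules) (hF : ClSub.KilledByIdeal i.ker F) (p : ℕ) :
    Coh.HH X F p ≃+ Coh.HH Z ((Scheme.Modules.pullback i).obj F) p :=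
  have := Groth.Agent.FormalA.ClosedImm.isIso_unit i hF
  (hiso A (asIso ((Scheme.Modules.pullbackPushforwardAdjunction i).unit.app F)) p).trans
    (hhPush i ((Scheme.Modules.pullback i).obj F) p).symm

omit [Z.Over (Spec (CommRingCat.of A))] in
theorem hhPush_hhClosed (F : X.Modules) (hF : ClSub.KilledByIdeal i.ker F) (p : ℕ)
    (x : Coh.HH X F p) : hhPush i ((Scheme.Modules.pullback i).obj F) p (hhClosed A i F hF p x) =
      HHmap A ((Scheme.Modules.pullbackPushforwardAdjunction i).unit.app F) p x :=
  (hhPush i ((Scheme.Modules.pullback i).obj F) p).apply_symm_apply _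

theorem hhClosed_map {F G : X.Modules} (hF : ClSub.KilledByIdeal i.ker F)
    (hG : ClSub.KilledByIdeal i.ker G) (φ : F ⟶ G) (p : ℕ) (x : Coh.HH X F p) :
    hhClosed A i G hG p (HHmap A φ p x) = HHmap A ((Scheme.Modules.pullback i).map φ) p
      (hhClosed A i F hF p x) := by
  apply (hhPush i ((Scheme.Modules.pullback i).obj G) p).injective
  rw [hhPush_HHmap, hhPush_hhClosed, hhPush_hhClosed]
  refine (HHmap_comp_apply A _ _ p x).trans (Eq.trans ?_ (HHmap_comp_apply A _ _ p x).symm)
  exact congrArg (fun ψ => HHmap A ψ p x)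
    ((Scheme.Modules.pullbackPushforwardAdjunction i).unit.naturality φ)

end Closed

section Main

variable {A : Type u} [CommRing A] {X Z : Scheme.{u}} [X.Over (Spec (CommRingCat.of A))]
  [Z.Over (Spec (CommRingCat.of A))] (i : Z ⟶ X) [IsClosedImmersion i]
  [i.IsOver (Spec (CommRingCat.of A))]

theorem toHHmodPow_eq (I : Ideal A) (M : X.Modules) (p n : ℕ) (x : Coh.HH X M p) :
    Formal.toHHmodPow I M p n x = HHmap A (cπ I M n) p x := rfl

theorem HHmodPowTrans_eq (I : Ideal A) (M : X.Modules) (p n : ℕ)
    (x : Formal.HHmodPow I M p (n + 1)) : Formal.HHmodPowTrans I M p n x =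
      HHmap A ((Formal.completion I M).map (homOfLE (Nat.le_succ n)).op) p x :=
  congrArg (fun ψ => HHmap A ψ p x) (completion_map_succ I M n).symm

theorem bijective_toHHlim_of_killed (I : Ideal A) (M : X.Modules)
    (hM : ClSub.KilledByIdeal i.ker M) (p : ℕ)
    (h : Function.Bijective (Formal.toHHlim I ((Scheme.Modules.pullback i).obj M) p)) :
    Function.Bijective (Formal.toHHlim I M p) := by
  have hk : ∀ n : ℕ, ClSub.KilledByIdeal i.ker ((Formal.completion I M).obj (op n)) := fun n => by
    have := (isModPow_cπ I M n).epi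
    exact Groth.Agent.Ega1.ProperSupp.killed_of_epi (cπ I M n) hM
  let κ := completionPullbackIso i I M
  let en : ∀ n, Coh.HH X ((Formal.completion I M).obj (op n)) p ≃+
      Coh.HH Z ((Formal.completion I ((Scheme.Modules.pullback i).obj M)).obj (op n)) p := fun n =>
    (hhClosed A i ((Formal.completion I M).obj (op n)) (hk n) p).trans
      (hiso A (κ.app (op n)) p).symm
  have hen : ∀ n x, HHmap A (κ.hom.app (op n)) p (en n x) =
      hhClosed A i ((Formal.completion I M).obj (op n)) (hk n) p x := fun n x =>
    (hiso A (κ.app (op n)) p).apply_symm_apply _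
  have hinj : ∀ n, Function.Injective (HHmap A (κ.hom.app (op n)) p) := fun n =>
    (hiso A (κ.app (op n)) p).injective
  have h1 : ∀ n x, en n (HHmap A (cπ I M n) p x) =
      HHmap A (cπ I ((Scheme.Modules.pullback i).obj M) n) p (hhClosed A i M hM p x) := by
    intro n x
    apply hinj n
    rw [hen]
    refine (hhClosed_map A i hM (hk n) (cπ I M n) p x).trans ?_
    refine Eq.trans ?_ (HHmap_comp_apply A _ _ p _).symm
    exact congrArg (fun ψ => HHmap A ψ p (hhClosed A i M hM p x))
      (cπ_completionPullbackIso_hom i I M n).symm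
  have h2 : ∀ n x, en n (HHmap A ((Formal.completion I M).map (homOfLE (Nat.le_succ n)).op) p x) =
      HHmap A ((Formal.completion I ((Scheme.Modules.pullback i).obj M)).map
        (homOfLE (Nat.le_succ n)).op) p (en (n + 1) x) := by
    intro n x
    apply hinj n
    rw [hen]
    refine (hhClosed_map A i (hk (n + 1)) (hk n)
      ((Formal.completion I M).map (homOfLE (Nat.le_succ n)).op) p x).trans ?_
    rw [← hen (n + 1) x]
    refine (HHmap_comp_apply A _ _ p _).trans (Eq.trans ?_ (HHmap_comp_apply A _ _ p _).symm)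
    exact congrArg (fun ψ => HHmap A ψ p (en (n + 1) x))
      (κ.hom.naturality (homOfLE (Nat.le_succ n)).op).symm
  refine bijective_toHHlim_of_equiv I M _ p (hhClosed A i M hM p) en (fun n x => ?_)
    (fun n x => ?_) h
  · rw [toHHmodPow_eq, toHHmodPow_eq]
    exact h1 n x
  · rw [HHmodPowTrans_eq, HHmodPowTrans_eq]
    exact h2 n x

end Main

/-- The theorem on formal functions for modules with proper support over a complete base. -/
theorem bijective_toHHlim_of_proper_support (A : Type u) [CommRing A] [IsNoetherianRing A]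
    (I : Ideal A) [IsAdicComplete I A] (X : Scheme.{u}) [X.Over (Spec (CommRingCat.of A))]
    [LocallyOfFiniteType (X ↘ Spec (CommRingCat.of A))]
    (M : X.Modules) (hM : Coh.IsCoh M)
    (hs : ClSub.IsProperOver (X ↘ Spec (CommRingCat.of A)) (CohB1.support M)) (p : ℕ) :
    Function.Bijective (Formal.toHHlim I M p) := by
  obtain ⟨J, kM, -, hp⟩ := Groth.Agent.Ega1.ProperSupp.exists_common_proper
    (Spec (CommRingCat.of A)) (X ↘ Spec (CommRingCat.of A)) M M hM hM hs hs
  let i := J.subschemeι
  have hker : i.ker = J := Scheme.IdealSheafData.ker_subschemeι J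
  let _ : J.subscheme.Over (Spec (CommRingCat.of A)) := ⟨i ≫ (X ↘ Spec (CommRingCat.of A))⟩
  have : i.IsOver (Spec (CommRingCat.of A)) := ⟨rfl⟩
  have hZ : IsProper (J.subscheme ↘ Spec (CommRingCat.of A)) := hp
  exact bijective_toHHlim_of_killed i I M (by rwa [hker]) p
    (Groth.Agent.S0003.result A I J.subscheme _
      (Groth.Agent.FormalA.PullbackQC.isCoh_pullback i M hM) p)

end K184.FormalSupp
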